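import Groth.Agent.H17.QFlat.BaseChange
import Groth.Agent.H17.Chev.MaxPt

set_option autoImplicit false
set_option linter.unusedSectionVars false
set_option linter.style.haveILetI false
universe u
open CategoryTheory CategoryTheory.Limits AlgebraicGeometry Topology TopologicalSpace

namespace Groth.Agent.H17.QFlat

open Groth.Agent.H17.Chev

/-- A generalizing map sends maximal points to maximal points. -/
theorem isMax_map_of_generalizingMap {X Y : Scheme.{u}} (f : X ⟶ Y) (hf : GeneralizingMap f.base)
    (x : X) (hx : IsMax x) : IsMax (f.base x) := by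
  intro y hy
  have h1 : y ⤳ f.base x := hy
  obtain ⟨x', hx', rfl⟩ := hf h1
  have h2 : x ⤳ x' := hx (show x ≤ x' from hx')
  exact (show f.base x ⤳ f.base x' from h2.map f.continuous)

/-- In a fibre product `X ×_Y Y'`, a maximal point lying over a maximal point `ξ` of `X` with
`f ξ` maximal in `Y` maps to a maximal point of `Y'`. -/
theorem isMax_snd_of_isMax {X Y Y' : Scheme.{u}} (f : X ⟶ Y) (g : Y' ⟶ Y)
    (ζ : ↥(pullback f g)) (hζ : IsMax ζ)
    (hfmax : IsMax (f.base ((pullback.fst f g).base ζ))) :
    IsMax ((pullback.snd f g).base ζ) := by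
  set ξ := (pullback.fst f g).base ζ with hξ
  set η := (pullback.snd f g).base ζ with hη
  have hcond : f.base ξ = g.base η := by
    have := congrArg (fun m => m.base ζ) (pullback.condition (f := f) (g := g))
    exact this
  intro y'' hy''
  have h1 : y'' ⤳ η := hy''
  have h2 : g.base y'' ⤳ f.base ξ := hcond ▸ h1.map g.continuous
  have h3 : f.base ξ ⤳ g.base y'' := hfmax (show f.base ξ ≤ g.base y'' from h2)
  have hgy : g.base y'' = f.base ξ := (h2.antisymm h3).eq
  -- the scheme `T = Spec κ(ξ)` and the fibre product `Q = T ×_X P`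
  let t : Spec (X.residueField ξ) ⟶ X := X.fromSpecResidueField ξ
  let r : Spec (X.residueField ξ) ⟶ Spec (Y.residueField (f.base ξ)) :=
    Spec.map (f.residueFieldMap ξ)
  have hr : r ≫ Y.fromSpecResidueField (f.base ξ) = t ≫ f :=
    Scheme.Hom.SpecMap_residueFieldMap_fromSpecResidueField f ξ
  obtain ⟨q₀, hq₀1, hq₀2⟩ := Scheme.Pullback.exists_preimage_pullback
    (f := t) (g := pullback.fst f g) (IsLocalRing.closedPoint _) ζ
    (by rw [hξ.symm]; exact Scheme.fromSpecResidueField_apply ξ _)
  -- the outer pullback rectangle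
  have hout : IsPullback (pullback.snd t (pullback.fst f g) ≫ pullback.snd f g)
      (pullback.fst t (pullback.fst f g)) g (t ≫ f) :=
    ((IsPullback.of_hasPullback t (pullback.fst f g)).flip.paste_horiz
      (IsPullback.of_hasPullback f g).flip)
  -- the map to the fibre of `g`
  have hw : (pullback.snd t (pullback.fst f g) ≫ pullback.snd f g) ≫ g =
      (pullback.fst t (pullback.fst f g) ≫ r) ≫ Y.fromSpecResidueField (f.base ξ) := by
    rw [Category.assoc (pullback.fst t (pullback.fst f g)), hr]
    exact hout.w
  let m : pullback t (pullback.fst f g) ⟶ g.fiber (f.base ξ) :=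
    pullback.lift (pullback.snd t (pullback.fst f g) ≫ pullback.snd f g)
      (pullback.fst t (pullback.fst f g) ≫ r) hw
  have hm1 : m ≫ g.fiberι (f.base ξ) = pullback.snd t (pullback.fst f g) ≫ pullback.snd f g :=
    pullback.lift_fst _ _ _
  have hm2 : m ≫ g.fiberToSpecResidueField (f.base ξ) = pullback.fst t (pullback.fst f g) ≫ r :=
    pullback.lift_snd _ _ _
  have hleft : IsPullback m (pullback.fst t (pullback.fst f g))
      (g.fiberToSpecResidueField (f.base ξ)) r := by
    have hright : IsPullback (g.fiberι (f.base ξ)) (g.fiberToSpecResidueField (f.base ξ)) g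
        (Y.fromSpecResidueField (f.base ξ)) := IsPullback.of_hasPullback _ _
    refine IsPullback.of_right ?_ hm2 hright
    rw [hm1, hr]
    exact hout
  haveI : Flat r := by
    rw [HasRingHomProperty.Spec_iff (P := @Flat)]
    algebraize [(f.residueFieldMap ξ).hom]
    exact RingHom.flat_algebraMap_iff.mpr inferInstance
  haveI : Flat m := MorphismProperty.of_isPullback hleft.flip inferInstance
  -- lift the generization
  have hy''mem : y'' ∈ Set.range (g.fiberι (f.base ξ)).base := by
    rw [Scheme.Hom.range_fiberι]; exact hgy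
  obtain ⟨w'', rfl⟩ := hy''mem
  have hmq₀ : (g.fiberι (f.base ξ)).base (m.base q₀) = η := by
    have := congrArg (fun k => k.base q₀) hm1
    simp only [Scheme.Hom.comp_base, TopCat.comp_app] at this
    rw [this, hq₀2]
  have h4 : w'' ⤳ m.base q₀ := by
    rw [← (g.fiberι (f.base ξ)).isEmbedding.isInducing.specializes_iff, hmq₀]
    exact h1
  obtain ⟨q'', hq'', hmq''⟩ := Flat.generalizingMap m h4
  have h5 : (pullback.snd t (pullback.fst f g)).base q'' ⤳ ζ := by
    rw [← hq₀2]; exact hq''.map (pullback.snd t (pullback.fst f g)).continuous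
  have h6 : ζ ⤳ (pullback.snd t (pullback.fst f g)).base q'' := hζ (show ζ ≤ _ from h5)
  have h7 := h6.map (pullback.snd f g).continuous
  have h8 : (pullback.snd f g).base ((pullback.snd t (pullback.fst f g)).base q'') =
      (g.fiberι (f.base ξ)).base w'' := by
    have := congrArg (fun k => k.base q'') hm1
    simp only [Scheme.Hom.comp_base, TopCat.comp_app] at this
    rw [← this, hmq'']
  rw [h8] at h7
  exact h7

/-- **EGA IV 2.3.7-type statement**: base change along a quasi-flat morphism preserves the property
that irreducible components dominate irreducible components. -/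
theorem closure_image_irreducibleComponent_pullback {X Y Y' : Scheme.{u}} (f : X ⟶ Y) (g : Y' ⟶ Y)
    (hf : ∀ Z ∈ irreducibleComponents ↥X, closure (⇑f.base '' Z) ∈ irreducibleComponents ↥Y)
    (hg : FDesc.IsQuasiFlat g) (Z' : Set ↥(pullback f g))
    (hZ' : Z' ∈ irreducibleComponents ↥(pullback f g)) :
    closure (⇑(pullback.snd f g).base '' Z') ∈ irreducibleComponents ↥Y' := by
  have hZc : IsClosed Z' := isClosed_of_mem_irreducibleComponents Z' hZ'
  obtain ⟨ζ, hζ⟩ : ∃ ζ, IsGenericPoint ζ Z' := ⟨_, hZ'.1.isGenericPoint_genericPoint hZc⟩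
  have hmaxζ : IsMax ζ := isMax_of_isGenericPoint_irreducibleComponent _ Z' hZ' ζ hζ
  have hqf : FDesc.IsQuasiFlat (pullback.fst f g) :=
    isQuasiFlat_of_isPullback (IsPullback.of_hasPullback f g).flip hg
  have hgen := Groth.Agent.H13.generalizingMap_of_isQuasiFlat _ hqf
  have hmaxξ := isMax_map_of_generalizingMap _ hgen ζ hmaxζ
  have hfmax : IsMax (f.base ((pullback.fst f g).base ζ)) := by
    have h1 := hf _ (closure_mem_irreducibleComponents_of_isMax X _ hmaxξ)
    rw [closure_image_eq_of_isGenericPoint f.base f.continuous _ _ isGenericPoint_closure] at h1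
    exact isMax_of_isGenericPoint_irreducibleComponent Y _ h1 _ isGenericPoint_closure
  rw [closure_image_eq_of_isGenericPoint (pullback.snd f g).base (pullback.snd f g).continuous Z' ζ hζ]
  exact closure_mem_irreducibleComponents_of_isMax _ _ (isMax_snd_of_isMax f g ζ hmaxζ hfmax)

end Groth.Agent.H17.QFlat
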