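import Groth.Agent.H71.QCoh.FlatBaseChange
import Groth.Agent.H79.PullStalkLength
import Groth.Agent.H13.QuasiFlat
import Groth.Agent.H18.FTypeCriterion
import Groth.Agent.H44.FiniteSections
import Groth.Agent.H44.PullbackAffine

set_option autoImplicit false
set_option linter.unusedSectionVars false
set_option linter.style.haveILetI false
universe u
open CategoryTheory CategoryTheory.Limits AlgebraicGeometry Topology TopologicalSpace TensorProduct

namespace Groth.Agent.H17.QFlat

/-- The pullback of a quasi-coherent module of finite type is of finite type. -/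
theorem isFiniteType_pullback {X Y : Scheme.{u}} (f : X ⟶ Y) (F : Y.Modules) [F.IsQuasicoherent]
    [SheafOfModules.IsFiniteType (R := Y.ringCatSheaf) F] :
    SheafOfModules.IsFiniteType (R := X.ringCatSheaf) ((Scheme.Modules.pullback f).obj F) := by
  have hex : ∀ x : X, ∃ (V : Y.Opens) (U : X.Opens), IsAffineOpen V ∧ IsAffineOpen U ∧ x ∈ U ∧
      U ≤ f ⁻¹ᵁ V := by
    intro x
    obtain ⟨_, ⟨V, hV, rfl⟩, hyV, -⟩ := Y.isBasis_affineOpens.exists_subset_of_mem_open
      (Set.mem_univ (f.base x)) isOpen_univ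
    obtain ⟨_, ⟨U, hU, rfl⟩, hxU, hUV⟩ := X.isBasis_affineOpens.exists_subset_of_mem_open
      (show x ∈ (f ⁻¹ᵁ V : Set X) from hyV) (f ⁻¹ᵁ V).2
    exact ⟨V, U, hV, hU, hxU, hUV⟩
  choose V U hV hU hxU hUV using hex
  have hfin : ∀ x : X, Module.Finite Γ(X, U x) Γ((Scheme.Modules.pullback f).obj F, U x) := by
    intro x
    letI := (f.appLE (V x) (U x) (hUV x)).hom.toAlgebra
    haveI : Module.Finite Γ(Y, V x) Γ(F, V x) := Groth.Agent.H44.finite_sections_of_isFiniteType F (hV x)
    haveI : Module.Finite Γ(X, U x) (Γ(X, U x) ⊗[Γ(Y, V x)] Γ(F, V x)) := inferInstance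
    exact Module.Finite.equiv (Groth.Agent.H44.pullbackSectionsEquiv f F (hU x) (hV x) (hUV x)).symm
  have hfg : ∀ x : X, ∃ s : Finset Γ((Scheme.Modules.pullback f).obj F, U x),
      Submodule.span Γ(X, U x) (s : Set Γ((Scheme.Modules.pullback f).obj F, U x)) = ⊤ := by
    intro x
    exact (hfin x).fg_top
  choose s hs using hfg
  refine Groth.Agent.H18.isFiniteType_of_isQuasicoherent_of_span_eq_top
    ((Scheme.Modules.pullback f).obj F) U ?_ hU (fun x => ↥(s x)) (fun x j => j.1) ?_
  · refine TopologicalSpace.IsOpenCover.mk (eq_top_iff.mpr ?_)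
    intro x _
    exact TopologicalSpace.Opens.mem_iSup.mpr ⟨x, hxU x⟩
  · intro x
    rw [Subtype.range_coe_subtype]
    exact hs x

/-- Extension of scalars along a local homomorphism preserves nontriviality of finite modules. -/
theorem nontrivial_tensorProduct_of_isLocalHom {A B M : Type*} [CommRing A] [CommRing B]
    [IsLocalRing A] [IsLocalRing B] [Algebra A B] [IsLocalHom (algebraMap A B)]
    [AddCommGroup M] [Module A M] [Module.Finite A M] [Nontrivial M] :
    Nontrivial (B ⊗[A] M) := by
  by_contra hcon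
  rw [not_nontrivial_iff_subsingleton] at hcon
  let k := IsLocalRing.ResidueField A
  let k' := IsLocalRing.ResidueField B
  have h1 : Nontrivial (k ⊗[A] M) := by
    by_contra h
    rw [not_nontrivial_iff_subsingleton, IsLocalRing.subsingleton_tensorProduct] at h
    exact not_subsingleton M h
  have h2 : Nontrivial (k' ⊗[k] (k ⊗[A] M)) :=
    (Module.FaithfullyFlat.nontrivial_tensorProduct_iff_right k k').mpr h1
  have e1 : k' ⊗[k] (k ⊗[A] M) ≃ₗ[k'] k' ⊗[A] M :=
    TensorProduct.AlgebraTensorModule.cancelBaseChange A k k' k' M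
  have e2 : k' ⊗[B] (B ⊗[A] M) ≃ₗ[k'] k' ⊗[A] M :=
    TensorProduct.AlgebraTensorModule.cancelBaseChange A B k' k' M
  have h3 : Subsingleton (k' ⊗[B] (B ⊗[A] M)) := by
    refine ⟨fun a b => ?_⟩
    suffices hz : ∀ c : k' ⊗[B] (B ⊗[A] M), c = 0 by rw [hz a, hz b]
    intro c
    induction c using TensorProduct.induction_on with
    | zero => rfl
    | tmul b m => rw [Subsingleton.elim m 0, TensorProduct.tmul_zero]
    | add a b ha hb => rw [ha, hb, add_zero]
  have h4 : Subsingleton (k' ⊗[k] (k ⊗[A] M)) :=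
    (e1.trans e2.symm).toEquiv.subsingleton
  exact not_subsingleton _ h4

/-- **Quasi-flatness is stable under base change.** -/
theorem isQuasiFlat_of_isPullback {X S X' S' : Scheme.{u}} {f : X ⟶ S} {f' : X' ⟶ S'}
    {g' : X' ⟶ X} {g : S' ⟶ S} (hc : IsPullback g' f' f g) (hf : FDesc.IsQuasiFlat f) :
    FDesc.IsQuasiFlat f' := by
  obtain ⟨M, ⟨hqc, hft⟩, hflat, hnt⟩ := hf
  haveI : M.IsQuasicoherent := hqc
  haveI : SheafOfModules.IsFiniteType (R := X.ringCatSheaf) M := hft
  refine ⟨(Scheme.Modules.pullback g').obj M, ⟨inferInstance, isFiniteType_pullback g' M⟩,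
    fun x' => Groth.Agent.H71.QCoh.isFlatOverAt_baseChange hc M x' (hflat _), fun x' => ?_⟩
  letI := (g'.stalkMap x').hom.toAlgebra
  haveI : IsLocalHom (algebraMap (X.presheaf.stalk (g'.base x')) (X'.presheaf.stalk x')) :=
    inferInstanceAs (IsLocalHom (g'.stalkMap x').hom)
  haveI := Groth.Agent.H13.finite_stalk_of_isCoh M ⟨hqc, hft⟩ (g'.base x')
  haveI := hnt (g'.base x')
  have hN := nontrivial_tensorProduct_of_isLocalHom (A := X.presheaf.stalk (g'.base x'))
    (B := X'.presheaf.stalk x') (M := M.presheaf.stalk (g'.base x'))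
  exact (Groth.Agent.H79.PullStalkLength.pullbackStalkEquiv g' x' M).toEquiv.nontrivial

/-- **EGA IV 2.4.6 (quasi-flat version)**: a quasi-flat morphism locally of finite presentation
is universally open. -/
theorem universallyOpen_of_isQuasiFlat {X Y : Scheme.{u}} (f : X ⟶ Y)
    (hf : FDesc.IsQuasiFlat f) [LocallyOfFinitePresentation f] : UniversallyOpen f :=
  ⟨MorphismProperty.universally_mk' _ _ fun t =>
    isOpenMap_of_generalizingMap _ (Groth.Agent.H13.generalizingMap_of_isQuasiFlat _
      (isQuasiFlat_of_isPullback (IsPullback.of_hasPullback t f).flip hf))⟩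

end Groth.Agent.H17.QFlat
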